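import Cfsg.Agent.Recog71.SuzOut.Defs

set_option autoImplicit false
set_option maxRecDepth 100000

namespace Cfsg.Agent.Recog71.SuzOut

open Cfsg.Agent.CosetEnum
open Cfsg.Agent.Recog71.Colour

theorem reach_ok : allRange (reach Suz.Rep.tbl par 20) 0 1782 = true := by decide +kernel

theorem lab_ok : allRange (fun i => Suz.Rep.ws.all fun W =>
    Nat.beq (Suz.Rep.orb.getLab (Suz.Rep.tbl.run W i)) (Suz.Rep.orb.getLab i)) 0 1782 = true := by
  decide +kernel

theorem a_cands : allRange (fun q => !(matches' Suz.Rep.tbl col [] cwA 21 q) || candsA.any (Nat.beq q)) 0 1782 = true := by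
  decide +kernel

theorem a_det0 : detOK Suz.Rep.tbl col cwA (ext Suz.Rep.tbl [] cwA 21 21) detA0 = true := by decide +kernel

theorem a_det1 : detOK Suz.Rep.tbl col cwA (ext Suz.Rep.tbl [] cwA 21 1049) detA1 = true := by decide +kernel

theorem a_fix : basePts.all (fun p => (pairsA 21 detA0).any fun e => Nat.beq e.1 p && Nat.beq e.2 p) = true := by
  decide +kernel

theorem a_all : basePts.all (fun p => (pairsA 1049 detA1).any fun e => Nat.beq e.1 p) = true := by
  decide +kernel

end Cfsg.Agent.Recog71.SuzOut
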