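import Cfsg.Agent.Recog71.SuzOut.Defs

set_option autoImplicit false
set_option maxRecDepth 100000

namespace Cfsg.Agent.Recog71.SuzOut

open Cfsg.Agent.CosetEnum
open Cfsg.Agent.Recog71.Colour

theorem b_cands : allRange (fun q => !(matches' Suz.Rep.tbl col [] cwB 335 q) || [335, 1281].any (Nat.beq q)) 0 1782 = true := by
  decide +kernel

theorem b_second0 : detOK Suz.Rep.tbl col cwB (ext Suz.Rep.tbl [] cwB 335 335) [(1281, 1281)] = true := by decide +kernel

theorem b_second1 : detOK Suz.Rep.tbl col cwB (ext Suz.Rep.tbl [] cwB 335 1281) [(1281, 335)] = true := by decide +kernel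

theorem b_round0 : roundOK Suz.Rep.tbl col (pairsB 335) cwB esOne 2 2 = true := by decide +kernel

theorem b_round1 : roundOK Suz.Rep.tbl col (pairsB 1281) cwB esOne 2 514 = true := by decide +kernel

theorem b_next0 : roundOK Suz.Rep.tbl col (ext Suz.Rep.tbl (pairsB 335) cwB 2 2) cwB esTwo 9 9 = true := by decide +kernel

theorem b_next1 : roundOK Suz.Rep.tbl col (ext Suz.Rep.tbl (pairsB 1281) cwB 2 514) cwB esTwo 9 1424 = true := by decide +kernel

theorem b_det0 : detOK Suz.Rep.tbl col cwB (pairsRounds 335 2 9) detB0 = true := by decide +kernel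

theorem b_det1 : detOK Suz.Rep.tbl col cwB (pairsRounds 1281 514 1424) detB1 = true := by decide +kernel

theorem b_fix : basePts.all (fun p => (pairsDone 335 2 9 detB0).any fun e => Nat.beq e.1 p && Nat.beq e.2 p) = true := by
  decide +kernel

theorem b_comm_a : basePts.all (fun p => (pairsDone 1281 514 1424 detB1).any fun e => Nat.beq e.1 p &&
    (pairsDone 1281 514 1424 detB1).any fun e' => Nat.beq e'.1 (Suz.Rep.tbl.run aW p) &&
      Nat.beq e'.2 (Suz.Rep.tbl.run aW e.2)) = true := by decide +kernel

theorem b_moved : (pairsDone 1281 514 1424 detB1).any (fun e => Nat.beq e.1 335 && Nat.beq e.2 1281) = true := by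
  decide +kernel

end Cfsg.Agent.Recog71.SuzOut
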