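import Cfsg.Agent.Recog71.SuzOut.Defs

set_option autoImplicit false
set_option maxRecDepth 100000

namespace Cfsg.Agent.Recog71.SuzOut

open Cfsg.Agent.CosetEnum
open Cfsg.Agent.Recog71.Colour

theorem words_ok : (okW aW && okW bW && okW uW && okW uW2 && cwB.all okW && esOne.all okW && esTwo.all okW &&
    sigW.all okW) = true := by decide +kernel

theorem a_pow : sameBase (repWord aW 11) [] = true := by decide +kernel

theorem a_ne : sameBase aW [] = false := by decide +kernel

theorem ab_rel : sameBase (bW ++ (aW ++ bW.reverse)) (repWord aW 6) = true := by decide +kernel

theorem u_comm : sameBase (uW ++ (bW ++ bW)) ((bW ++ bW) ++ uW) = true := by decide +kernel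

theorem u_rel2 : sameBase (relWord uW 2) [] = true := by decide +kernel

theorem u_rel3 : sameBase (relWord uW 3) [] = true := by decide +kernel

theorem u_rel4 : sameBase (relWord uW 4) [] = true := by decide +kernel

theorem u_two : sameBase uW2 uW = false := by decide +kernel

theorem cwB_eq : (cwB.length == 4 && (List.range 4).all (fun i =>
    sameBase (cwB.getD i []) (repWord (bW ++ bW) (i + 1)))) = true := by decide +kernel

theorem es_comm : (esOne ++ esTwo).all (fun e => sameBase (e ++ (bW ++ bW)) ((bW ++ bW) ++ e)) = true := by
  decide +kernel

theorem verdicts : (combos.length == 300 && allRange (fun k => verdict (combos.getD k []) (codes.getD k (2, 4))) 0 300) = true := by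
  decide +kernel

theorem gens_three : (genW.length == 7 && genW.all (fun V => V.all fun k => Nat.blt k 6) &&
    (List.range 7).all (fun l => sameBase (threeWord (genW.getD l [])) [l])) = true := by decide +kernel

theorem sig_a : sameBase (subst aW) aW = true := by decide +kernel

theorem sig_b : sameBase (subst bW) bW = true := by decide +kernel

theorem sig_u : sameBase (subst uW) uW2 = true := by decide +kernel

end Cfsg.Agent.Recog71.SuzOut
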