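import Cfsg.Agent.Recog71.SuzOut.Defs

set_option autoImplicit false
set_option maxRecDepth 100000

namespace Cfsg.Agent.Recog71.SuzOut

open Cfsg.Agent.CosetEnum
open Cfsg.Agent.Recog71.Colour

theorem sig_rels : Suz.Rep.relsLit.all (fun W => W.all (fun l => Nat.blt l 7) && sameBase (subst W) []) = true := by
  decide +kernel

end Cfsg.Agent.Recog71.SuzOut
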