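import Cfsg.Agent.Recog71.SuzOut.Data
import Cfsg.Agent.Recog71.ColourCore
import Cfsg.Agent.SporB.Suz.Rep.Data

/-!
The checks made on the points of `Suz`.
-/

set_option autoImplicit false

namespace Cfsg.Agent.Recog71.SuzOut

open Cfsg.Agent.CosetEnum
open Cfsg.Agent.Recog71.Colour

/-- The colour of a pair of points. -/
noncomputable def col : ℕ → ℕ → ℕ := colGo Suz.Rep.tbl par (fun i => Suz.Rep.orb.getLab i) 20

/-- The base of the levels. -/
def basePts : List ℕ := [0, 1, 2, 160]

/-- The powers of the element of order 11. -/
def cwA : List (List ℕ) := (List.range 10).map fun i => repWord aW (i + 1)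

/-- The candidates for the image of the first point under the centraliser of `a`. -/
noncomputable def candsA : List ℕ :=
  (List.range 11).map (fun i => Suz.Rep.tbl.run (repWord aW i) 21) ++
    (List.range 11).map (fun i => Suz.Rep.tbl.run (repWord aW i) 1049)

/-- The known images in the two cases for the centraliser of `a`. -/
noncomputable def pairsA (t : ℕ) (L : List (ℕ × ℕ)) : List (ℕ × ℕ) :=
  extAll Suz.Rep.tbl cwA (ext Suz.Rep.tbl [] cwA 21 t) L

/-- The first known images in the two cases for the centraliser of the square. -/
noncomputable def pairsB (q : ℕ) : List (ℕ × ℕ) :=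
  extAll Suz.Rep.tbl cwB (ext Suz.Rep.tbl [] cwB 335 q) [(1281, if q = 335 then 1281 else 335)]

/-- The known images after the rounds. -/
noncomputable def pairsRounds (q t1 t2 : ℕ) : List (ℕ × ℕ) :=
  ext Suz.Rep.tbl (ext Suz.Rep.tbl (pairsB q) cwB 2 t1) cwB 9 t2

/-- All the known images. -/
noncomputable def pairsDone (q t1 t2 : ℕ) (L : List (ℕ × ℕ)) : List (ℕ × ℕ) :=
  extAll Suz.Rep.tbl cwB (pairsRounds q t1 t2) L

/-- The words covering the centraliser of the square. -/
def combos : List (List ℕ) := esTwo.flatMap fun e2 => esOne.map fun e1 => e2 ++ e1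

/-- Two words act alike on the base. -/
noncomputable def sameBase (U V : List ℕ) : Bool :=
  basePts.all fun p => Nat.beq (Suz.Rep.tbl.run U p) (Suz.Rep.tbl.run V p)

/-- A word uses only letters of the table. -/
noncomputable def okW (U : List ℕ) : Bool := U.all fun l => Nat.blt l 7

/-- The relation tested by a verdict. -/
def relWord (W : List ℕ) : ℕ → List ℕ
  | 2 => repWord W 3
  | 3 => repWord (aW ++ W) 13
  | _ => repWord (bW ++ W) 10

/-- The verdict on a word. -/
noncomputable def verdict (W : List ℕ) (c : ℕ × ℕ) : Bool :=
  match c.1 with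
  | 0 => sameBase W uW
  | 1 => sameBase W uW2
  | k + 2 => !(Nat.beq (Suz.Rep.tbl.run (relWord W (k + 2)) (basePts.getD c.2 0)) (basePts.getD c.2 0))

/-- The letters of the three generators and their inverses. -/
def threeW : List (List ℕ) := [aW, aW.reverse, bW, bW.reverse, uW, uW.reverse]

/-- The substitution of the three generators in a word. -/
def threeWord (V : List ℕ) : List ℕ := V.flatMap fun k => threeW.getD k []

/-- The word replacing a letter under the outer automorphism. -/
def subst (W : List ℕ) : List ℕ := W.flatMap fun l => sigW.getD l []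

end Cfsg.Agent.Recog71.SuzOut
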